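import Groth.Agent.MonoLocusLib.Global
import Groth.Agent.MultEqLib.Piece

/-!
Points of diagonalisable groups with values in arbitrary schemes.
-/

set_option autoImplicit false
set_option backward.isDefEq.respectTransparency false

noncomputable section

universe u

open CategoryTheory CategoryTheory.Limits MonoidalCategory CartesianMonoidalCategory AlgebraicGeometry CoactBr
open scoped MonObj

namespace DSPtsLib

open Groth.Agent.FreeAct (DA chr)

attribute [local instance] CoactBr.braidedAlgSpecOf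

variable {S : Scheme.{u}} {M : Type} [AddCommGroup M]

/-- The ring of integers in the universe. -/
abbrev Z0 : Type u := ULift.{u} ℤ

/-- The global functions as an algebra over the integers. -/
local instance algTop (X : Scheme.{u}) : Algebra Z0.{u} Γ(X, ⊤) := ULift.algebra' ℤ _

theorem ringHom_ext (C : Type u) [CommRing C] (f g : Z0.{u} →+* C) : f = g := by
  refine RingHom.ext fun x => ?_
  obtain ⟨n⟩ := x
  exact RingHom.congr_fun (RingHom.ext_int (f.comp (ULift.ringEquiv.symm : ℤ ≃+* Z0.{u}).toRingHom)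
    (g.comp (ULift.ringEquiv.symm : ℤ ≃+* Z0.{u}).toRingHom)) n

/-- The Hopf algebra of the diagonalisable group over the integers. -/
instance hopfDA (M : Type) [AddCommGroup M] : HopfAlgebra ↑(CommRingCat.of Z0.{u})
    ↑(CommRingCat.of (MonoidAlgebra Z0.{u} (Multiplicative M))) :=
  inferInstanceAs (HopfAlgebra Z0.{u} (MonoidAlgebra Z0.{u} (Multiplicative M)))

/-- A ring map is linear over the integers. -/
def topMap {X Y : Scheme.{u}} (g : X ⟶ Y) : Γ(Y, ⊤) →ₐ[Z0.{u}] Γ(X, ⊤) :=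
  ⟨g.appTop.hom, fun r => RingHom.congr_fun
    (ringHom_ext _ (g.appTop.hom.comp (algebraMap Z0.{u} Γ(Y, ⊤))) (algebraMap Z0.{u} Γ(X, ⊤))) r⟩

/-- The map to the integers. -/
abbrev toZ (S : Scheme.{u}) : S ⟶ Spec (CommRingCat.of Z0.{u}) := specULiftZIsTerminal.from S

/-- The map to the spectrum of global functions. -/
def toSp (T : Over S) : (Over.map (toZ S)).obj T ⟶ sp Z0.{u} Γ(T.left, ⊤) :=
  Over.homMk T.left.toSpecΓ (specULiftZIsTerminal.hom_ext _ _)

/-- The point of the diagonalisable group given by a character. -/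
def dsPt {T : Over S} (χ : Multiplicative M →* Γ(T.left, ⊤)) : T ⟶ Red.DS S M :=
  (Over.mapPullbackAdj (toZ S)).homEquiv T (Red.diag Z0.{u} M) (toSp T ≫ pt (chr (R := Z0.{u}) _ χ))

theorem dsPt_bijective (T : Over S) : Function.Bijective (dsPt (M := M) (T := T)) := by
  refine Function.Bijective.comp ((Over.mapPullbackAdj (toZ S)).homEquiv T (Red.diag Z0.{u} M)).bijective ⟨?_, ?_⟩
  · intro χ χ' h
    have h1 : T.left.toSpecΓ ≫ Spec.map (CommRingCat.ofHom (chr (R := Z0.{u}) Γ(T.left, ⊤) χ).toRingHom) =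
        T.left.toSpecΓ ≫ Spec.map (CommRingCat.ofHom (chr (R := Z0.{u}) Γ(T.left, ⊤) χ').toRingHom) :=
      congrArg Over.Hom.left h
    have h2 := congrArg (fun z => (Scheme.ΓSpecIso _).inv ≫ z.appTop) h1
    simp only [Scheme.Hom.comp_appTop, Scheme.toSpecΓ_appTop, ← Scheme.ΓSpecIso_inv_naturality_assoc] at h2
    simp only [Iso.inv_hom_id, Category.comp_id] at h2
    refine MonoidHom.ext fun m => ?_
    have := RingHom.congr_fun (congrArg CommRingCat.Hom.hom h2) (MonoidAlgebra.single m 1)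
    simpa [chr] using this
  · intro h
    let r : MonoidAlgebra Z0.{u} (Multiplicative M) →+* Γ(T.left, ⊤) :=
      ((Scheme.ΓSpecIso (CommRingCat.of (MonoidAlgebra Z0.{u} (Multiplicative M)))).inv ≫ h.left.appTop).hom
    let a : MonoidAlgebra Z0.{u} (Multiplicative M) →ₐ[Z0.{u}] Γ(T.left, ⊤) :=
      ⟨r, fun x => RingHom.congr_fun (ringHom_ext _ (r.comp (algebraMap Z0.{u} _)) (algebraMap Z0.{u} _)) x⟩
    refine ⟨r.toMonoidHom.comp (MonoidAlgebra.of Z0.{u} (Multiplicative M)), ?_⟩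
    have hchr : chr (R := Z0.{u}) Γ(T.left, ⊤) (r.toMonoidHom.comp (MonoidAlgebra.of Z0.{u} (Multiplicative M))) = a :=
      (MonoidAlgebra.lift Z0.{u} Γ(T.left, ⊤) (Multiplicative M)).apply_symm_apply a
    show toSp T ≫ pt (chr (R := Z0.{u}) _ _) = h
    rw [hchr]
    refine Over.OverMorphism.ext ?_
    show T.left.toSpecΓ ≫ Spec.map (CommRingCat.ofHom r) = h.left
    rw [show CommRingCat.ofHom r = (Scheme.ΓSpecIso _).inv ≫ h.left.appTop from CommRingCat.ofHom_hom _,
      Spec.map_comp, ← Scheme.toSpecΓ_naturality_assoc]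
    exact (congrArg (h.left ≫ ·) (toSpecΓ_SpecMap_ΓSpecIso_inv _)).trans (Category.comp_id _)

theorem toSp_natural {T' T : Over S} (g : T' ⟶ T) :
    (Over.map (toZ S)).map g ≫ toSp T = toSp T' ≫ pt (topMap g.left) :=
  Over.OverMorphism.ext (Scheme.toSpecΓ_naturality g.left)

theorem chr_natural {A B : Type u} [CommRing A] [Algebra Z0.{u} A] [CommRing B] [Algebra Z0.{u} B]
    (L : A →ₐ[Z0.{u}] B) (χ : Multiplicative M →* A) :
    L.comp (chr (R := Z0.{u}) A χ) = chr (R := Z0.{u}) B (L.toRingHom.toMonoidHom.comp χ) :=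
  (MonoidAlgebra.lift Z0.{u} B (Multiplicative M)).symm.injective (MonoidHom.ext fun m => by simp [chr, Algebra.smul_def])

theorem dsPt_natural {T' T : Over S} (g : T' ⟶ T) (χ : Multiplicative M →* Γ(T.left, ⊤)) :
    g ≫ dsPt χ = dsPt (g.left.appTop.hom.toMonoidHom.comp χ) := by
  rw [dsPt, dsPt, ← Adjunction.homEquiv_naturality_left, ← Category.assoc, toSp_natural, Category.assoc, ← pt_comp,
    chr_natural]
  rfl

theorem chr_mul {A : Type u} [CommRing A] [Algebra Z0.{u} A] (χ χ' : Multiplicative M →* A) :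
    pt (R := Z0.{u}) (chr (R := Z0.{u}) A (χ * χ')) = pt (chr (R := Z0.{u}) A χ) * pt (chr (R := Z0.{u}) A χ') := by
  refine Eq.trans ?_ (pt_mul_pt (chr (R := Z0.{u}) A χ) (chr (R := Z0.{u}) A χ')).symm
  refine congrArg pt ((MonoidAlgebra.lift Z0.{u} A (Multiplicative M)).symm.injective (MonoidHom.ext fun m => ?_))
  simp [chr, Algebra.smul_def]

theorem dsPt_mul {T : Over S} (χ χ' : Multiplicative M →* Γ(T.left, ⊤)) :
    dsPt (χ * χ') = dsPt χ * dsPt χ' := by
  have h : toSp T ≫ pt (chr (R := Z0.{u}) _ (χ * χ')) =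
      (toSp T ≫ pt (chr (R := Z0.{u}) _ χ)) * (toSp T ≫ pt (chr (R := Z0.{u}) _ χ')) := by
    rw [chr_mul]
    exact MonObj.comp_mul _ _ _
  exact (congrArg ((Over.mapPullbackAdj (toZ S)).homEquiv T (Red.diag Z0.{u} M)) h).trans
    (AlgGrp.Action.homEquiv_mul _ _ _)

theorem dsPt_one {T : Over S} : dsPt (1 : Multiplicative M →* Γ(T.left, ⊤)) = 1 := by
  have h := dsPt_mul (T := T) (1 : Multiplicative M →* Γ(T.left, ⊤)) 1
  rw [_root_.one_mul] at h
  exact mul_eq_left.1 h.symm

/-- The characters of a point of the multiplicative group. -/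
def gmPt {T : Over S} (r : (Γ(T.left, ⊤))ˣ) : T ⟶ Red.Gm S :=
  dsPt ((Units.coeHom _).comp (zpowersHom _ r))

theorem gmPt_bijective (T : Over S) : Function.Bijective (gmPt (T := T)) := by
  refine Function.Bijective.comp (dsPt_bijective T) ⟨fun r r' h => ?_, fun χ => ⟨χ.toHomUnits (.ofAdd 1), ?_⟩⟩
  · exact Units.ext (by simpa using DFunLike.congr_fun h (.ofAdd 1))
  · refine MonoidHom.ext fun m => ?_
    have : (zpowersHom _ (χ.toHomUnits (.ofAdd 1))) = χ.toHomUnits := MonoidHom.ext_mint (by simp)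
    show (((zpowersHom _ (χ.toHomUnits (.ofAdd 1))) m : (Γ(T.left, ⊤))ˣ) : Γ(T.left, ⊤)) = χ m
    rw [this]
    rfl

theorem gmPt_natural {T' T : Over S} (g : T' ⟶ T) (r : (Γ(T.left, ⊤))ˣ) :
    g ≫ gmPt r = gmPt (Units.map g.left.appTop.hom.toMonoidHom r) := by
  rw [gmPt, gmPt, dsPt_natural]
  congr 1
  exact MonoidHom.ext fun m => by simp [← map_zpow]

theorem gmPt_mul {T : Over S} (r r' : (Γ(T.left, ⊤))ˣ) : gmPt (r * r') = gmPt r * gmPt r' := by
  rw [gmPt, gmPt, gmPt, ← dsPt_mul]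
  congr 1
  exact MonoidHom.ext fun m => by simp [mul_zpow]

end DSPtsLib
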